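import Groth.Agent.BlowUpLib.RegBlow
import Groth.Agent.BlowUpLib.RegSmooth
import Groth.Agent.RegImmKindLib.Near
import Groth.Agent.CommAlgDim.Regular

/-!
# Blow-ups of regular schemes in regular centres
-/

set_option autoImplicit false
set_option backward.isDefEq.respectTransparency false
set_option backward.isDefEq.respectTransparency.types false

universe u

open CategoryTheory CategoryTheory.Limits AlgebraicGeometry TopologicalSpace IsLocalRing

namespace RegCentreLib

variable {X Y : Scheme.{u}}

/-- A regular closed subscheme of a regular scheme is regularly immersed. -/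
theorem isRegularClosedImmersion_of_regular [IsLocallyNoetherian X] (i : Y ⟶ X) [IsClosedImmersion i]
    (hX : ∀ y : Y, IsRegularLocalRing (X.presheaf.stalk (i y)))
    (hY : ∀ y : Y, IsRegularLocalRing (Y.presheaf.stalk y)) : Mor2.IsRegularClosedImmersion i := by
  refine ⟨inferInstance, fun y => ?_⟩
  haveI := hX y
  haveI := hY y
  haveI : IsRegularLocalRing (X.presheaf.stalk (i y) ⧸ RingHom.ker (i.stalkMap y).hom) :=
    IsRegularLocalRing.of_ringEquiv (RingHom.quotientKerEquivOfSurjective (i.stalkMap_surjective y)).symm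
  obtain ⟨rs, hrs, hker⟩ := CommAlgDim.exists_isRegular_of_regular_quotient
    (J := RingHom.ker (i.stalkMap y).hom)
  obtain ⟨⟨U, hU⟩, hyU, -, ls, hls, hk⟩ :=
    (RegImmKindLib.isRegularImmersionAt_iff i .regular y).mpr ⟨rs, hrs, hker.symm⟩
  exact ⟨U, hU, hyU, ls, hls, by rw [Scheme.Hom.ker_apply]; exact hk⟩

/-- The blow-up of a regular scheme in a regular closed subscheme is regular. -/
theorem isRegularLocalRing_stalk_blowUp [IsLocallyNoetherian X]
    (hX : ∀ x : X, IsRegularLocalRing (X.presheaf.stalk x)) (i : Y ⟶ X) [IsClosedImmersion i]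
    (hY : ∀ y : Y, IsRegularLocalRing (Y.presheaf.stalk y)) {X' : Scheme.{u}} (b : X' ⟶ X)
    (hb : BlowUp.IsBlowUp b i.ker) (x' : X') : IsRegularLocalRing (X'.presheaf.stalk x') := by
  have hi := isRegularClosedImmersion_of_regular i (fun y => hX (i y)) hY
  haveI : IsProper b := BlowUpLib.isProper_of_isBlowUp hb fun U => by
    haveI : IsNoetherianRing Γ(X, U.1) := IsLocallyNoetherian.component_noetherian U
    exact IsNoetherian.noetherian _
  haveI : IsLocallyNoetherian X' := LocallyOfFiniteType.isLocallyNoetherian b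
  haveI : IsLocallyNoetherian Y := LocallyOfFiniteType.isLocallyNoetherian i
  by_cases hx : b x' ∈ i.ker.support
  · let ι := (BlowUp.exceptional b i.ker).subschemeι
    haveI : IsLocallyNoetherian (BlowUp.exceptional b i.ker).subscheme :=
      LocallyOfFiniteType.isLocallyNoetherian ι
    haveI : IsIso i.toImage := inferInstance
    let g : (BlowUp.exceptional b i.ker).subscheme ⟶ Y :=
      ((i.ker.comapIso b).hom ≫ pullback.snd b i.ker.subschemeι) ≫ inv i.toImage
    have hg : g ≫ i = ι ≫ b := by
      have h1 : inv i.toImage ≫ i = i.ker.subschemeι := by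
        rw [IsIso.inv_comp_eq]
        exact i.toImage_imageι.symm
      have h2 : (i.ker.comapIso b).hom ≫ pullback.snd b i.ker.subschemeι ≫ i.ker.subschemeι =
          (i.ker.comap b).subschemeι ≫ b := by
        rw [← pullback.condition, ← Category.assoc, Scheme.IdealSheafData.comapIso_hom_fst]
      simp only [g, Category.assoc, h1]
      exact h2
    haveI := BlowUpLib.smooth_exceptional i hi b hb g hg
    obtain ⟨z, rfl⟩ : x' ∈ Set.range ι := by
      rw [Scheme.IdealSheafData.range_subschemeι, Scheme.IdealSheafData.support_comap]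
      exact hx
    haveI := hY (g z)
    haveI := BlowUpLib.isRegularLocalRing_stalk_of_smooth g z
    obtain ⟨V, hzV, t, ht, hVt⟩ := hb.1 (ι z)
    let t' := X'.presheaf.germ V.1 (ι z) hzV t
    have hker : RingHom.ker (ι.stalkMap z).hom = Ideal.span {t'} := by
      rw [FComplLib.ker_stalkMap ι z V hzV, Scheme.IdealSheafData.ker_subschemeι]
      show ((i.ker.comap b).ideal V).map _ = _
      rw [hVt, Ideal.map_span, Set.image_singleton]
    haveI : IsRegularLocalRing (X'.presheaf.stalk (ι z) ⧸ Ideal.span {t'}) :=
      IsRegularLocalRing.of_ringEquiv ((Ideal.quotEquivOfEq hker.symm).trans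
        (RingHom.quotientKerEquivOfSurjective (ι.stalkMap_surjective z))).symm
    refine Groth.Agent.S0560.result _ t' ?_ ?_
    · refine fun hu => ?_
      have htop : Ideal.span {t'} = ⊤ := Ideal.span_singleton_eq_top.mpr hu
      exact RingHom.ker_ne_top (ι.stalkMap z).hom (hker.trans htop)
    · letI := X'.presheaf.algebra_section_stalk (⟨ι z, hzV⟩ : V.1)
      haveI := V.2.isLocalization_stalk ⟨ι z, hzV⟩
      exact IsLocalization.nonZeroDivisors_le_comap (V.2.primeIdealOf ⟨ι z, hzV⟩).asIdeal.primeCompl _ ht
  · let U : X.Opens := i.ker.support.compl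
    haveI := EffCartLib.isIso_off_center i.ker b hb U le_rfl
    let u' : ↥(b ⁻¹ᵁ U) := ⟨x', hx⟩
    haveI : IsIso (b.stalkMap u'.1) :=
      ((MorphismProperty.isomorphisms CommRingCat).arrow_mk_iso_iff (morphismRestrictStalkMap b U u')).mp
        (inferInstanceAs (IsIso ((b ∣_ U).stalkMap u')))
    haveI := hX (b x')
    exact IsRegularLocalRing.of_ringEquiv (asIso (b.stalkMap u'.1)).commRingCatIsoToRingEquiv

end RegCentreLib
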