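import Groth.Agent.RegCentreLib.Basic
import Groth.Agent.RegImmKindLib.CM
import Groth.Agent.CMFlatLib.Open
import Groth.Agent.CMFlatLib.Basic

/-!
# Blow-ups of Cohen–Macaulay schemes in regularly immersed centres
-/

set_option autoImplicit false
set_option backward.isDefEq.respectTransparency false
set_option backward.isDefEq.respectTransparency.types false

universe u

open CategoryTheory CategoryTheory.Limits AlgebraicGeometry TopologicalSpace IsLocalRing CommAlgDim
  RingTheory.Sequence

namespace RegCentreLib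

set_option maxHeartbeats 1600000 in
theorem isCM_stalk_of_smooth {X S : Scheme.{u}} [IsLocallyNoetherian X] [IsLocallyNoetherian S] (f : X ⟶ S) [Smooth f]
    (x : X) (h : IsCM (S.presheaf.stalk (f x))) : IsCM (X.presheaf.stalk x) := by
  obtain ⟨y, hy⟩ : ∃ y, f.fiberι (f x) y = x := ⟨f.asFiber x, f.fiberι_asFiber x⟩
  suffices H : IsCM (X.presheaf.stalk (f.fiberι (f x) y)) from hy ▸ H
  replace h : IsCM (S.presheaf.stalk (f (f.fiberι (f x) y))) := hy.symm ▸ h
  let F := f.fiber (f x)
  letI : F.Over (Spec (CommRingCat.of (S.residueField (f x)))) := ⟨f.fiberToSpecResidueField (f x)⟩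
  haveI : Smooth (F ↘ Spec (CommRingCat.of (S.residueField (f x)))) :=
    MorphismProperty.pullback_snd (P := @Smooth) _ _ ‹Smooth f›
  haveI hF : IsRegularLocalRing (F.presheaf.stalk y) := Groth.Agent.S1535.result (S.residueField (f x)) F y
  obtain ⟨hsurj, hker⟩ := Groth.Agent.S9501.result f (f x) y
  letI := (f.stalkMap (f.fiberι (f x) y)).hom.toAlgebra
  haveI : IsLocalHom (algebraMap (S.presheaf.stalk (f (f.fiberι (f x) y))) (X.presheaf.stalk (f.fiberι (f x) y))) :=
    inferInstanceAs (IsLocalHom (f.stalkMap (f.fiberι (f x) y)).hom)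
  haveI : Module.Flat (S.presheaf.stalk (f (f.fiberι (f x) y))) (X.presheaf.stalk (f.fiberι (f x) y)) :=
    Flat.stalkMap f _
  haveI hreg := IsRegularLocalRing.of_ringEquiv
    ((Ideal.quotEquivOfEq hker.symm).trans (RingHom.quotientKerEquivOfSurjective hsurj)).symm
  exact (CMFlatLib.isCM_flat_iff _ _).mpr ⟨h, isCM_of_isRegularLocalRing _⟩

/-- The local rings of a regularly immersed closed subscheme of a Cohen–Macaulay scheme. -/
theorem isCM_stalk_of_regularImmersion {X Y : Scheme.{u}} [IsLocallyNoetherian X] [IsLocallyNoetherian Y]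
    (i : Y ⟶ X) (hi : Mor2.IsRegularClosedImmersion i) (y : Y) (h : IsCM (X.presheaf.stalk (i y))) :
    IsCM (Y.presheaf.stalk y) := by
  obtain ⟨hc, hloc⟩ := hi
  haveI : IsClosedImmersion i := hc
  obtain ⟨U, hU, hyU, rs, hrs, hk⟩ := hloc y
  rw [Scheme.Hom.ker_apply] at hk
  have hat : RegImm.IsRegularImmersionAt .regular i y :=
    ⟨⟨U, hU⟩, hyU, IsZariskiLocalAtTarget.restrict hc U, rs, hrs, hk⟩
  obtain ⟨ls, hls, hker⟩ := (RegImmKindLib.isRegularImmersionAt_iff i .regular y).mp hat
  have hm : ∀ r ∈ ls, r ∈ maximalIdeal (X.presheaf.stalk (i y)) := fun r hr =>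
    le_maximalIdeal (RingHom.ker_ne_top (i.stalkMap y).hom) (hker.ge (Ideal.subset_span hr))
  let e := (Ideal.quotEquivOfEq hker).symm.trans (RingHom.quotientKerEquivOfSurjective (i.stalkMap_surjective y))
  haveI : IsLocalRing (X.presheaf.stalk (i y) ⧸ Ideal.ofList ls) := e.symm.isLocalRing
  exact CatLib.isCM_of_ringEquiv e
    (RegImmKindLib.isCM_quotient_ofList _ _ ls rfl hls.toIsWeaklyRegular hm h)

/-- The blow-up of a Cohen–Macaulay scheme in a regular ideal is Cohen–Macaulay. -/
theorem isCM_stalk_blowUp {X Y : Scheme.{u}} [IsLocallyNoetherian X]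
    (hX : ∀ x : X, IsCM (X.presheaf.stalk x)) (i : Y ⟶ X) [IsClosedImmersion i]
    (hi : Mor2.IsRegularClosedImmersion i) {X' : Scheme.{u}} (b : X' ⟶ X)
    (hb : BlowUp.IsBlowUp b i.ker) [IsLocallyNoetherian X'] (x' : X') : IsCM (X'.presheaf.stalk x') := by
  haveI : IsLocallyNoetherian Y := LocallyOfFiniteType.isLocallyNoetherian i
  by_cases hx : b x' ∈ i.ker.support
  · let ι := (BlowUp.exceptional b i.ker).subschemeι
    haveI : IsLocallyNoetherian (BlowUp.exceptional b i.ker).subscheme :=
      LocallyOfFiniteType.isLocallyNoetherian ι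
    let g : (BlowUp.exceptional b i.ker).subscheme ⟶ Y :=
      ((i.ker.comapIso b).hom ≫ pullback.snd b i.ker.subschemeι) ≫ inv i.toImage
    have hg : g ≫ i = ι ≫ b := by
      have h1 : inv i.toImage ≫ i = i.ker.subschemeι := by
        rw [IsIso.inv_comp_eq]
        exact i.toImage_imageι.symm
      have h2 : (i.ker.comapIso b).hom ≫ pullback.snd b i.ker.subschemeι ≫ i.ker.subschemeι =
          (i.ker.comap b).subschemeι ≫ b := by
        rw [← pullback.condition, ← Category.assoc, Scheme.IdealSheafData.comapIso_hom_fst]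
      simp only [g, Category.assoc, h1]
      exact h2
    haveI := BlowUpLib.smooth_exceptional i hi b hb g hg
    obtain ⟨z, rfl⟩ : x' ∈ Set.range ι := by
      rw [Scheme.IdealSheafData.range_subschemeι, Scheme.IdealSheafData.support_comap]
      exact hx
    have hE : IsCM ((BlowUp.exceptional b i.ker).subscheme.presheaf.stalk z) :=
      isCM_stalk_of_smooth g z (isCM_stalk_of_regularImmersion i hi (g z) (hX _))
    obtain ⟨V, hzV, t, ht, hVt⟩ := hb.1 (ι z)
    let t' := X'.presheaf.germ V.1 (ι z) hzV t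
    have hker : RingHom.ker (ι.stalkMap z).hom = Ideal.span {t'} := by
      rw [FComplLib.ker_stalkMap ι z V hzV, Scheme.IdealSheafData.ker_subschemeι]
      show ((i.ker.comap b).ideal V).map _ = _
      rw [hVt, Ideal.map_span, Set.image_singleton]
    have hnzd : t' ∈ nonZeroDivisors (X'.presheaf.stalk (ι z)) := by
      letI := X'.presheaf.algebra_section_stalk (⟨ι z, hzV⟩ : V.1)
      haveI := V.2.isLocalization_stalk ⟨ι z, hzV⟩
      exact IsLocalization.nonZeroDivisors_le_comap (V.2.primeIdealOf ⟨ι z, hzV⟩).asIdeal.primeCompl _ ht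
    have htm : t' ∈ maximalIdeal (X'.presheaf.stalk (ι z)) :=
      le_maximalIdeal (RingHom.ker_ne_top (ι.stalkMap z).hom) (hker.ge (Ideal.mem_span_singleton_self _))
    let e := (Ideal.quotEquivOfEq hker.symm).trans (RingHom.quotientKerEquivOfSurjective (ι.stalkMap_surjective z))
    haveI : IsLocalRing (X'.presheaf.stalk (ι z) ⧸ Ideal.span {t'}) := e.symm.isLocalRing
    exact (CMFlatLib.isCM_quotient_iff
      (fun a c hac => (mul_cancel_left_mem_nonZeroDivisors hnzd).mp hac) htm).mp (CatLib.isCM_of_ringEquiv e.symm hE)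
  · let U : X.Opens := i.ker.support.compl
    haveI := EffCartLib.isIso_off_center i.ker b hb U le_rfl
    let u' : ↥(b ⁻¹ᵁ U) := ⟨x', hx⟩
    haveI : IsIso (b.stalkMap u'.1) :=
      ((MorphismProperty.isomorphisms CommRingCat).arrow_mk_iso_iff (morphismRestrictStalkMap b U u')).mp
        (inferInstanceAs (IsIso ((b ∣_ U).stalkMap u')))
    exact CatLib.isCM_of_ringEquiv (asIso (b.stalkMap u'.1)).commRingCatIsoToRingEquiv (hX (b x'))

end RegCentreLib
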